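import Cfsg.Agent.Lib.Helper80.DG.FrobB
import Cfsg.Agent.Lib.Helper77.DGV
import Cfsg.Agent.Lib.Helper89.DGSep

/-!
# Degree graph of solvable groups, the Frobenius case, part C (helper80)

`frob_case`: `N ⊴ G` with `G/N` abelian, `K' ⊴ N` invariant under `G` with `N/K'` an abelian
`q`-group `≠ 1`, every `g ∉ N` acting without fixed points on `N/K'`.  Then every irreducible
character `χ` of `G` has `q ∣ χ(1)`, or `χ(1)` divides the degree of an irreducible character
of degree divisible by `|G : N|`.
-/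

set_option autoImplicit false
set_option linter.unusedSectionVars false

namespace Cfsg.Agent.Lib.Helper80.DG

open Cfsg
open Cfsg.Agent.Lib
open scoped ComplexConjugate

universe u

section Main

variable {G : Type u} [Group G] [Fintype G] (N : Subgroup G) [hN : N.Normal] [Fintype N]

/-- **Claim A**: with `G/N` abelian, `χ(1)` divides `|G : N| ψ(1)` for a constituent `ψ` of
`χ|_N`. -/
theorem charDegree_dvd_index_mul (habG : ∀ x y : G, x * y * x⁻¹ * y⁻¹ ∈ N)
    (χ : IrrCharacter G) (ψ : IrrCharacter N)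
    (hover : classInner (fun n : N => (χ : G → ℂ) n) (ψ : N → ℂ) ≠ 0) :
    charDegree (χ : G → ℂ) ∣ N.index * charDegree (ψ : N → ℂ) := by
  classical
  set T := Helper75.inertia N (ψ : N → ℂ) with hT
  let _ : Fintype T := Fintype.ofFinite T
  obtain ⟨e, C, he, hC, hcard, hind, hdeg⟩ :=
    Helper75.exists_uniform_ramification_inertia N T ψ.2 (fun g => Iff.rfl)
      (fun x _ y _ => habG x y)
  -- χ ∈ C
  have hχC : (χ : G → ℂ) ∈ C := by
    by_contra hnot
    apply hover
    have h1 : classInner (indFun N (ψ : N → ℂ)) (χ : G → ℂ) = 0 := by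
      rw [hind, Helper78.classInner_smul_left, Helper78.classInner_sum_left]
      rw [Finset.sum_eq_zero, mul_zero]
      intro ξ hξ
      apply Helper78.classInner_irr_ne (hC ξ hξ) χ.2
      intro h
      exact hnot (by rwa [← h])
    rw [Helper75.frobenius_reciprocity N (ψ : N → ℂ) (Helper78.isClassFunction_irr χ)] at h1
    rw [← Helper78.classInner_conj_symm, h1, map_zero]
  have h1 := hdeg _ hχC
  rw [Helper78.IsCharacter.apply_one_eq_charDegree (Helper78.IsIrrCharacter.isCharacter χ.2),
    Helper78.IsCharacter.apply_one_eq_charDegree (Helper78.IsIrrCharacter.isCharacter ψ.2)] at h1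
  have h2 : charDegree (χ : G → ℂ) = T.index * e * charDegree (ψ : N → ℂ) := by
    exact_mod_cast h1
  -- |G:N| = |G:T| e² |C|
  have h3 : N.index = T.index * e ^ 2 * C.card := by
    have hN0 : 0 < Nat.card N := Nat.card_pos
    have h4 : N.index * Nat.card N = T.index * Nat.card T := by
      rw [Subgroup.index_mul_card, Subgroup.index_mul_card]
    rw [← hcard] at h4
    have h5 : N.index * Nat.card N = (T.index * e ^ 2 * C.card) * Nat.card N := by
      rw [h4]; ring
    exact Nat.eq_of_mul_eq_mul_right hN0 h5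
  rw [h2, h3]
  exact Dvd.intro (e * C.card) (by ring)

variable (K' : Subgroup N) [hK' : K'.Normal]

/-- **The Frobenius case.** -/
theorem frob_case
    (hKinv : ∀ (g : G) (n : N), n ∈ K' → cj N g n ∈ K')
    (habN : ∀ a b : N, a * b * a⁻¹ * b⁻¹ ∈ K')
    (habG : ∀ x y : G, x * y * x⁻¹ * y⁻¹ ∈ N)
    (hfpf : ∀ g : G, g ∉ N → ∀ n : N, cj N g n * n⁻¹ ∈ K' → n ∈ K')
    (q : ℕ) (hq : q.Prime) (hidx : ∃ a : ℕ, 0 < a ∧ K'.index = q ^ a)
    (χ : IrrCharacter G) :
    q ∣ charDegree (χ : G → ℂ) ∨
      ∃ ξ : IrrCharacter G, N.index ∣ charDegree (ξ : G → ℂ) ∧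
        charDegree (χ : G → ℂ) ∣ charDegree (ξ : G → ℂ) := by
  classical
  obtain ⟨ψ, hψ⟩ := Helper75.exists_constituent_res N χ.2
  set d := charDegree (ψ : N → ℂ) with hd
  by_cases hbig : ∀ ψ' : IrrCharacter N, charDegree (ψ' : N → ℂ) = d →
      ∃ g : G, g ∉ N ∧ Helper75.conjFun N g (ψ' : N → ℂ) = (ψ' : N → ℂ)
  · left
    have hvan : ∀ n : N, n ∉ K' → (ψ : N → ℂ) n = 0 := by
      intro n hn
      obtain ⟨lam, hlam1, hlam2⟩ := Helper89.DG.exists_hom_ne_one_of_not_mem K' habN n hn
      have h1 := mul_homFun_eq_self_of_inertia_big N K' hKinv habG hfpf d hbig ψ rfl lam hlam1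
      have h2 := congrFun h1 n
      simp only [Pi.mul_apply] at h2
      have h3 : (ψ : N → ℂ) n * (homFun lam n - 1) = 0 := by rw [mul_sub, h2, mul_one, sub_self]
      rcases mul_eq_zero.mp h3 with h4 | h4
      · exact h4
      · exfalso
        apply hlam2
        have h5 : ((lam n : ℂˣ) : ℂ) = 1 := sub_eq_zero.mp h4
        exact Units.ext (by simpa using h5)
    have h1 := Helper77.prime_dvd_charDegree_of_vanishing_off K' q hq hidx ψ hvan
    exact h1.trans (charDegree_dvd_of_over N χ.2 ψ.2 hψ)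
  · right
    push Not at hbig
    obtain ⟨ψ', hψ'd, hψ'⟩ := hbig
    -- the inertia group of ψ' is N
    have hT : ∀ g : G, g ∈ N ↔ Helper75.conjFun N g (ψ' : N → ℂ) = (ψ' : N → ℂ) := by
      intro g
      constructor
      · intro hg
        exact Helper75.conjFun_of_mem N (Helper78.IsCharacter.isClassFunction
          (Helper78.IsIrrCharacter.isCharacter ψ'.2)) ⟨g, hg⟩
      · intro hg
        by_contra hgN
        exact hψ' g hgN hg
    have hnorm := Helper75.classInner_indFun_self N N ψ'.2 hT
    rw [div_self (by exact_mod_cast (Nat.card_pos (α := N)).ne')] at hnorm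
    have hirr : IsIrrCharacter G (indFun N (ψ' : N → ℂ)) :=
      Helper78.isIrrCharacter_of_classInner_self_eq_one
        (Cfsg.Agent.S0148.result N _ (Helper78.IsIrrCharacter.isCharacter ψ'.2)) hnorm
    have hdegξ : charDegree (indFun N (ψ' : N → ℂ)) = N.index * d := by
      apply charDegree_natCast
      rw [Helper75.indFun_one,
        Helper78.IsCharacter.apply_one_eq_charDegree (Helper78.IsIrrCharacter.isCharacter ψ'.2),
        hψ'd]
      push_cast
      rfl
    refine ⟨⟨_, hirr⟩, ?_, ?_⟩
    · change N.index ∣ charDegree (indFun N (ψ' : N → ℂ))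
      rw [hdegξ]
      exact Dvd.intro _ rfl
    · change _ ∣ charDegree (indFun N (ψ' : N → ℂ))
      rw [hdegξ]
      exact charDegree_dvd_index_mul N habG χ ψ hψ

end Main

end Cfsg.Agent.Lib.Helper80.DG
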