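import Cfsg.Agent.Lib.Helper80.DG.FrobA
import Cfsg.Agent.Lib.Helper80.ItoMichler
import Cfsg.Agent.S0148

/-!
# Degree graph of solvable groups, the Frobenius case, part B (helper80)

`N ⊴ G` with `G/N` abelian, `K' ⊴ N` invariant under `G`, every `g ∉ N` acting without fixed points
on `N/K'`.  If every irreducible character of `N` of degree `d` has inertia group larger than `N`,
then every such character `ψ` satisfies `ψ μ = ψ` for all linear characters `μ` of `N/K'`.
-/

set_option autoImplicit false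
set_option linter.unusedSectionVars false

namespace Cfsg.Agent.Lib.Helper80.DG

open Cfsg
open Cfsg.Agent.Lib
open scoped ComplexConjugate

universe u

section Twist

variable {N : Type u} [Group N] [Fintype N]

theorem homFun_mul_conj (lam : N →* ℂˣ) (n : N) : homFun lam n * conj (homFun lam n) = 1 := by
  have h1 : (homFun lam n) ^ Nat.card N = 1 := by
    show ((lam n : ℂˣ) : ℂ) ^ Nat.card N = 1
    rw [← Units.val_pow_eq_pow_val, ← map_pow, pow_card_eq_one', map_one, Units.val_one]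
  have h2 : ‖homFun lam n‖ = 1 := Complex.norm_eq_one_of_pow_eq_one h1 Nat.card_pos.ne'
  rw [Complex.mul_conj, Complex.normSq_eq_norm_sq, h2]
  simp

/-- the twist of an irreducible character by a linear character is irreducible -/
theorem isIrrCharacter_mul_homFun {ψ : N → ℂ} (hψ : IsIrrCharacter N ψ) (lam : N →* ℂˣ) :
    IsIrrCharacter N (ψ * homFun lam) := by
  apply Helper78.isIrrCharacter_of_classInner_self_eq_one
  · exact isCharacter_mul (Helper78.IsIrrCharacter.isCharacter hψ)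
      (Helper78.IsIrrCharacter.isCharacter (Helper77.isIrrCharacter_of_monoidHom lam))
  · rw [← Helper78.classInner_irr_self hψ]
    unfold classInner
    congr 1
    apply Finset.sum_congr rfl
    intro n _
    simp only [Pi.mul_apply, map_mul]
    calc ψ n * homFun lam n * (conj (ψ n) * conj (homFun lam n))
        = ψ n * conj (ψ n) * (homFun lam n * conj (homFun lam n)) := by ring
      _ = ψ n * conj (ψ n) := by rw [homFun_mul_conj, mul_one]

theorem charDegree_mul_homFun (ψ : N → ℂ) (lam : N →* ℂˣ) :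
    charDegree (ψ * homFun lam) = charDegree ψ := by
  unfold charDegree
  simp [homFun]

end Twist

section Main

variable {G : Type u} [Group G] [Fintype G] (N : Subgroup G) [hN : N.Normal] [Fintype N]
variable (K' : Subgroup N) [hK' : K'.Normal]

theorem mul_homFun_div_of_eq (ψ : N → ℂ) (a b : N →* ℂˣ) (h : ψ * homFun a = ψ * homFun b) :
    ψ * homFun (a * b⁻¹) = ψ := by
  rw [homFun_mul, ← mul_assoc, h, mul_assoc, homFun_mul_inv_cancel, mul_one]

/-- **Key step** (Isaacs 12.4). -/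
theorem mul_homFun_eq_self_of_inertia_big
    (hKinv : ∀ (g : G) (n : N), n ∈ K' → cj N g n ∈ K')
    (habG : ∀ x y : G, x * y * x⁻¹ * y⁻¹ ∈ N)
    (hfpf : ∀ g : G, g ∉ N → ∀ n : N, cj N g n * n⁻¹ ∈ K' → n ∈ K')
    (d : ℕ)
    (hbig : ∀ ψ' : IrrCharacter N, charDegree (ψ' : N → ℂ) = d →
      ∃ g : G, g ∉ N ∧ Helper75.conjFun N g (ψ' : N → ℂ) = (ψ' : N → ℂ))
    (ψ : IrrCharacter N) (hψ : charDegree (ψ : N → ℂ) = d) (lam : N →* ℂˣ)
    (hlam : ∀ k ∈ K', lam k = 1) :
    (ψ : N → ℂ) * homFun lam = (ψ : N → ℂ) := by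
  classical
  have hirr2 := isIrrCharacter_mul_homFun ψ.2 lam
  have hdeg2 : charDegree ((ψ : N → ℂ) * homFun lam) = d := by
    rw [charDegree_mul_homFun, hψ]
  obtain ⟨g, hgN, hg⟩ := hbig ψ hψ
  obtain ⟨h, hhN, hh⟩ := hbig ⟨_, hirr2⟩ hdeg2
  change Helper75.conjFun N h ((ψ : N → ℂ) * homFun lam) = (ψ : N → ℂ) * homFun lam at hh
  rw [conjFun_mul_fun, ← homFun_conjHom] at hh
  -- ν
  set nu : N →* ℂˣ := lam * (conjHom N h lam)⁻¹ with hnu
  have hnuK : ∀ k ∈ K', nu k = 1 := by
    intro k hk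
    rw [hnu, MonoidHom.mul_apply, MonoidHom.inv_apply, hlam k hk, conjHom_apply',
      hlam _ (hKinv h k hk), inv_one, one_mul]
  have hψh : Helper75.conjFun N h (ψ : N → ℂ) = (ψ : N → ℂ) * homFun nu := by
    rw [hnu, homFun_mul, ← mul_assoc, ← hh, mul_assoc, homFun_mul_inv_cancel, mul_one]
  -- g fixes ψ^h
  have hcl : IsClassFunction N (Helper75.conjFun N (g * h) (ψ : N → ℂ)) :=
    Helper78.IsCharacter.isClassFunction (Helper78.IsIrrCharacter.isCharacter
      (Helper75.isIrrCharacter_conjFun N ψ.2 (g * h)))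
  have hgfix : Helper75.conjFun N g (Helper75.conjFun N h (ψ : N → ℂ)) =
      Helper75.conjFun N h (ψ : N → ℂ) := by
    rw [← Helper75.conjFun_mul]
    have hm : (g * h)⁻¹ * (h * g) ∈ N := by
      have := habG h⁻¹ g⁻¹
      simpa [mul_assoc] using this
    have h1 : h * g = (g * h) * ((g * h)⁻¹ * (h * g)) := by group
    rw [h1, Helper75.conjFun_mul, Helper75.conjFun_of_mem N hcl ⟨_, hm⟩, Helper75.conjFun_mul, hg]
  rw [hψh, conjFun_mul_fun, hg, ← homFun_conjHom] at hgfix
  have hdivg := mul_homFun_div_of_eq N (ψ : N → ℂ) _ _ hgfix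
  have hmem1 : conjHom N g nu * nu⁻¹ ∈ fixU N K' (ψ : N → ℂ) := by
    refine ⟨fun k hk => ?_, hdivg⟩
    rw [MonoidHom.mul_apply, MonoidHom.inv_apply, conjHom_apply', hnuK _ (hKinv g k hk),
      hnuK k hk, inv_one, one_mul]
  have hnuU := mem_fixU_of_div_mem N K' g (hKinv g) (hfpf g hgN) (ψ : N → ℂ) hg nu hnuK hmem1
  have hψh' : Helper75.conjFun N h (ψ : N → ℂ) = (ψ : N → ℂ) := by rw [hψh, hnuU.2]
  rw [hψh'] at hh
  have hdivh := mul_homFun_div_of_eq N (ψ : N → ℂ) _ _ hh
  have hmem2 : conjHom N h lam * lam⁻¹ ∈ fixU N K' (ψ : N → ℂ) := by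
    refine ⟨fun k hk => ?_, hdivh⟩
    rw [MonoidHom.mul_apply, MonoidHom.inv_apply, conjHom_apply', hlam _ (hKinv h k hk),
      hlam k hk, inv_one, one_mul]
  exact (mem_fixU_of_div_mem N K' h (hKinv h) (hfpf h hhN) (ψ : N → ℂ) hψh' lam hlam hmem2).2

end Main

end Cfsg.Agent.Lib.Helper80.DG
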