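import Cfsg.Agent.Lib.Helper80.TwoDeg
import Cfsg.Agent.Lib.Helper75.AbelianQuot
import Cfsg.Agent.Lib.Helper75.Clifford3

/-!
# Degree graph of solvable groups, the Frobenius case, part A (helper80)

`N ⊴ G`, `K' ⊴ N` invariant under `G`, an element `g` acting without fixed points on `N/K'`.
* `eq_one_of_conjHom_eq`: a `g`-fixed linear character of `N/K'` is trivial.
* `mem_fixU_of_div_mem`: the closure step for the subgroup `fixU ψ` of linear characters `μ` of
  `N/K'` with `ψ μ = ψ`.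
-/

set_option autoImplicit false
set_option linter.unusedSectionVars false

namespace Cfsg.Agent.Lib.Helper80.DG

open Cfsg
open Cfsg.Agent.Lib
open scoped ComplexConjugate

universe u

section Setup

variable {G : Type u} [Group G] (N : Subgroup G) [hN : N.Normal]

/-- conjugation by `g` on the normal subgroup `N` -/
def cj (g : G) (n : N) : N := ⟨g * n * g⁻¹, hN.conj_mem n n.2 g⟩

theorem cj_coe (g : G) (n : N) : ((cj N g n : N) : G) = g * n * g⁻¹ := rfl

theorem cj_mul (g : G) (a b : N) : cj N g (a * b) = cj N g a * cj N g b := by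
  apply Subtype.ext
  simp only [cj_coe, Subgroup.coe_mul]
  group

theorem cj_inv (g : G) (a : N) : cj N g a⁻¹ = (cj N g a)⁻¹ := by
  apply Subtype.ext
  simp only [cj_coe, Subgroup.coe_inv]
  group

theorem conjHom_apply' (g : G) (lam : N →* ℂˣ) (n : N) : conjHom N g lam n = lam (cj N g n) := rfl

theorem conjFun_apply' (g : G) (θ : N → ℂ) (n : N) : Helper75.conjFun N g θ n = θ (cj N g n) := rfl

variable (K' : Subgroup N) [hK' : K'.Normal]

/-- A linear character of `N/K'` fixed by an element acting fixed-point-freely on `N/K'` is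
trivial. -/
theorem eq_one_of_conjHom_eq [Finite N]
    (g : G) (hKinv : ∀ n : N, n ∈ K' → cj N g n ∈ K')
    (hfpf : ∀ n : N, cj N g n * n⁻¹ ∈ K' → n ∈ K')
    (lam : N →* ℂˣ) (hlam : ∀ k ∈ K', lam k = 1) (hfix : conjHom N g lam = lam) : lam = 1 := by
  classical
  -- the map `n ↦ g n g⁻¹ n⁻¹` on cosets
  let f : N → N := fun n => cj N g n * n⁻¹
  have hkey : ∀ a b : N, (f a)⁻¹ * f b = a * (cj N g (a⁻¹ * b) * (a⁻¹ * b)⁻¹) * a⁻¹ := by
    intro a b
    simp only [f, cj_mul, cj_inv]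
    group
  have hwd : ∀ a b : N, a⁻¹ * b ∈ K' → (f a)⁻¹ * f b ∈ K' := by
    intro a b hab
    rw [hkey]
    apply hK'.conj_mem
    exact K'.mul_mem (hKinv _ hab) (K'.inv_mem hab)
  have hinj : ∀ a b : N, (f a)⁻¹ * f b ∈ K' → a⁻¹ * b ∈ K' := by
    intro a b hab
    apply hfpf
    rw [hkey] at hab
    have := hK'.conj_mem _ hab a⁻¹
    simpa [mul_assoc] using this
  let F : N ⧸ K' → N ⧸ K' := Quotient.map' f (by
    intro a b hab
    rw [QuotientGroup.leftRel_apply] at hab ⊢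
    exact hwd a b hab)
  have hF : ∀ a : N, F (QuotientGroup.mk a) = QuotientGroup.mk (f a) := fun a => rfl
  have hFinj : Function.Injective F := by
    intro x y hxy
    induction x using QuotientGroup.induction_on with
    | H a =>
      induction y using QuotientGroup.induction_on with
      | H b =>
        rw [hF, hF, QuotientGroup.eq] at hxy
        rw [QuotientGroup.eq]
        exact hinj a b hxy
  have hFsurj : Function.Surjective F := Finite.injective_iff_surjective.mp hFinj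
  ext n
  obtain ⟨x, hx⟩ := hFsurj (QuotientGroup.mk n)
  induction x using QuotientGroup.induction_on with
  | H m =>
    rw [hF, QuotientGroup.eq] at hx
    have h1 : lam ((f m)⁻¹ * n) = 1 := hlam _ hx
    rw [map_mul, map_inv] at h1
    have h2 : lam (f m) = 1 := by
      show lam (cj N g m * m⁻¹) = 1
      rw [map_mul, map_inv, ← conjHom_apply', hfix, mul_inv_cancel]
    rw [h2, inv_one, one_mul] at h1
    rw [h1, MonoidHom.one_apply]

/-- `homFun` is multiplicative -/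
theorem homFun_mul (a b : N →* ℂˣ) : homFun (a * b) = homFun a * homFun b := by
  funext n
  simp [homFun]

theorem homFun_one : homFun (1 : N →* ℂˣ) = 1 := by
  funext n
  simp [homFun]

theorem homFun_mul_inv_cancel (a : N →* ℂˣ) : homFun a * homFun a⁻¹ = 1 := by
  funext n
  simp [homFun]

/-- an abstract computation in a commutative group -/
theorem fix_of_div_eq {E : Type*} [CommGroup E] (c : E →* E) (a b : E)
    (h : c a * a⁻¹ = c b * b⁻¹) : c (a * b⁻¹) = a * b⁻¹ := by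
  rw [map_mul, map_inv]
  have h3 : c a = c b * b⁻¹ * a := by rw [← h, inv_mul_cancel_right]
  rw [h3]
  calc c b * b⁻¹ * a * (c b)⁻¹ = (c b * (c b)⁻¹) * (a * b⁻¹) := by ac_rfl
    _ = a * b⁻¹ := by rw [mul_inv_cancel, one_mul]

theorem conjFun_mul_fun (g : G) (θ φ : N → ℂ) :
    Helper75.conjFun N g (θ * φ) = Helper75.conjFun N g θ * Helper75.conjFun N g φ := rfl

/-- The linear characters `μ` of `N/K'` with `ψ μ = ψ`. -/
def fixU (ψ : N → ℂ) : Subgroup (N →* ℂˣ) where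
  carrier := {mu | (∀ k ∈ K', mu k = 1) ∧ ψ * homFun mu = ψ}
  one_mem' := ⟨fun _ _ => rfl, by rw [homFun_one, mul_one]⟩
  mul_mem' := by
    rintro a b ⟨ha1, ha2⟩ ⟨hb1, hb2⟩
    refine ⟨fun k hk => ?_, ?_⟩
    · rw [MonoidHom.mul_apply, ha1 k hk, hb1 k hk, one_mul]
    · rw [homFun_mul, ← mul_assoc, ha2, hb2]
  inv_mem' := by
    rintro a ⟨ha1, ha2⟩
    refine ⟨fun k hk => ?_, ?_⟩
    · rw [MonoidHom.inv_apply, ha1 k hk, inv_one]
    · conv_lhs => rw [← ha2]
      rw [mul_assoc, homFun_mul_inv_cancel, mul_one]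

theorem mem_fixU (ψ : N → ℂ) (mu : N →* ℂˣ) :
    mu ∈ fixU N K' ψ ↔ (∀ k ∈ K', mu k = 1) ∧ ψ * homFun mu = ψ := Iff.rfl

/-- **Closure step.**  If `g` acts fixed-point-freely on `N/K'` and fixes `ψ`, then a linear
character `ν` of `N/K'` with `ν^g ν⁻¹ ∈ fixU ψ` lies in `fixU ψ`. -/
theorem mem_fixU_of_div_mem [Finite N]
    (g : G) (hKinv : ∀ n : N, n ∈ K' → cj N g n ∈ K')
    (hfpf : ∀ n : N, cj N g n * n⁻¹ ∈ K' → n ∈ K')
    (ψ : N → ℂ) (hψ : Helper75.conjFun N g ψ = ψ)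
    (nu : N →* ℂˣ) (hnu : ∀ k ∈ K', nu k = 1)
    (hdiv : conjHom N g nu * nu⁻¹ ∈ fixU N K' ψ) : nu ∈ fixU N K' ψ := by
  classical
  have hfin : Finite (N →* ℂˣ) := Finite.of_equiv _ (Helper77.linearCharEquiv (G := N))
  -- `conjHom g` preserves `fixU ψ`
  have hpres : ∀ u ∈ fixU N K' ψ, conjHom N g u ∈ fixU N K' ψ := by
    rintro u ⟨hu1, hu2⟩
    refine ⟨fun k hk => ?_, ?_⟩
    · rw [conjHom_apply']
      exact hu1 _ (hKinv k hk)
    · rw [homFun_conjHom]
      conv_lhs => rw [← hψ]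
      rw [← conjFun_mul_fun, hu2, hψ]
  let φ : fixU N K' ψ → fixU N K' ψ := fun u =>
    ⟨conjHom N g (u : N →* ℂˣ) * (u : N →* ℂˣ)⁻¹,
      (fixU N K' ψ).mul_mem (hpres _ u.2) ((fixU N K' ψ).inv_mem u.2)⟩
  have hone : ∀ w : N →* ℂˣ, (∀ k ∈ K', w k = 1) → conjHom N g w = w → w = 1 :=
    fun w hw1 hw2 => eq_one_of_conjHom_eq N K' g hKinv hfpf w hw1 hw2
  have hφinj : Function.Injective φ := by
    intro a b hab
    have h1 : conjHom N g (a : N →* ℂˣ) * (a : N →* ℂˣ)⁻¹ =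
        conjHom N g (b : N →* ℂˣ) * (b : N →* ℂˣ)⁻¹ := congrArg Subtype.val hab
    have h2 : conjHom N g ((a : N →* ℂˣ) * (b : N →* ℂˣ)⁻¹) =
        (a : N →* ℂˣ) * (b : N →* ℂˣ)⁻¹ := fix_of_div_eq (conjHom N g) _ _ h1
    have h4 : (a : N →* ℂˣ) * (b : N →* ℂˣ)⁻¹ = 1 := by
      apply hone _ _ h2
      intro k hk
      rw [MonoidHom.mul_apply, MonoidHom.inv_apply, a.2.1 k hk, b.2.1 k hk, inv_one, one_mul]
    exact Subtype.ext (mul_inv_eq_one.mp h4)
  have hφsurj : Function.Surjective φ := Finite.injective_iff_surjective.mp hφinj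
  obtain ⟨u, hu⟩ := hφsurj ⟨_, hdiv⟩
  have h1 : conjHom N g (u : N →* ℂˣ) * (u : N →* ℂˣ)⁻¹ = conjHom N g nu * nu⁻¹ :=
    congrArg Subtype.val hu
  have h2 : conjHom N g ((u : N →* ℂˣ) * nu⁻¹) = (u : N →* ℂˣ) * nu⁻¹ :=
    fix_of_div_eq (conjHom N g) _ _ h1
  have h4 : (u : N →* ℂˣ) * nu⁻¹ = 1 := by
    apply hone _ _ h2
    intro k hk
    rw [MonoidHom.mul_apply, MonoidHom.inv_apply, u.2.1 k hk, hnu k hk, inv_one, one_mul]
  have h5 : (u : N →* ℂˣ) = nu := mul_inv_eq_one.mp h4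
  rw [← h5]
  exact u.2

end Setup

end Cfsg.Agent.Lib.Helper80.DG
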