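import Cfsg.Agent.Lib.Helper80.OneP
import Cfsg.Agent.Lib.Helper80.ItoMichler
import Cfsg.Agent.Lib.Helper75.AbelianQuot
import Cfsg.Agent.Lib.Helper75.Clifford3

/-!
# Degree graph of solvable groups, the `p`-group case (helper80)

`K ⊴ G` with `G/K` a nonabelian `p`-group.  Then every irreducible character `χ` of `G` of degree
prime to `p` has a multiple `χ ψ̃` that is irreducible of degree divisible by `p`.
-/

set_option autoImplicit false
set_option linter.unusedSectionVars false

namespace Cfsg.Agent.Lib.Helper80.DG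

open Cfsg
open Cfsg.Agent.Lib
open scoped ComplexConjugate

universe u

section ResAbelianP

variable {G : Type u} [Group G] [Fintype G]

/-- If `G/M` is an abelian `p`-group and `p ∤ χ(1)` then `χ|_M` is irreducible (norm one). -/
theorem classInner_res_self_eq_one_of_not_dvd (M : Subgroup G) [hM : M.Normal] [Fintype M]
    (p : ℕ) (hp : p.Prime)
    (hab : ∀ x y : G, x * y * x⁻¹ * y⁻¹ ∈ M) (hidx : ∃ n : ℕ, M.index = p ^ n)
    (χ : IrrCharacter G) (hχ : ¬ p ∣ charDegree (χ : G → ℂ)) :
    classInner (fun m : M => (χ : G → ℂ) m) (fun m : M => (χ : G → ℂ) m) = 1 := by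
  classical
  obtain ⟨n, hn⟩ := hidx
  obtain ⟨θ, hθ⟩ := Helper75.exists_constituent_res M χ.2
  have hθcl := Helper78.IsCharacter.isClassFunction (Helper78.IsIrrCharacter.isCharacter θ.2)
  -- the inertia group is everything
  have hT1 : (Helper75.inertia M (θ : M → ℂ)).index ∣ charDegree (χ : G → ℂ) :=
    index_inertia_dvd_charDegree M χ.2 θ.2 hθ
  have hT2 : (Helper75.inertia M (θ : M → ℂ)).index ∣ p ^ n := by
    rw [← hn]
    exact Subgroup.index_dvd_of_le (Helper75.le_inertia M hθcl)
  have hT3 : (Helper75.inertia M (θ : M → ℂ)).index = 1 := by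
    obtain ⟨j, -, hj⟩ := (Nat.dvd_prime_pow hp).mp hT2
    rcases Nat.eq_zero_or_pos j with h0 | hpos
    · rw [hj, h0, pow_zero]
    · exfalso
      apply hχ
      refine Dvd.dvd.trans ?_ hT1
      rw [hj]
      exact dvd_pow_self p hpos.ne'
  have hTtop : Helper75.inertia M (θ : M → ℂ) = ⊤ := Subgroup.index_eq_one.mp hT3
  have hinv : ∀ g : G, Helper75.conjFun M g (θ : M → ℂ) = (θ : M → ℂ) := by
    intro g
    have : g ∈ Helper75.inertia M (θ : M → ℂ) := by rw [hTtop]; exact Subgroup.mem_top g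
    exact (Helper75.mem_inertia M).mp this
  obtain ⟨e, D, he, hind, hres, hcount⟩ := Helper75.exists_uniform_ramification M hab θ.2 hinv
  have he0 : (e : ℂ) ≠ 0 := by exact_mod_cast he.ne'
  -- χ ∈ D
  have hχD : χ ∈ D := by
    by_contra hnot
    apply hθ
    have h1 : classInner (indFun M (θ : M → ℂ)) (χ : G → ℂ) = 0 := by
      rw [hind, Helper78.classInner_smul_left, Helper78.classInner_sum_left]
      rw [Finset.sum_eq_zero, mul_zero]
      intro ψ hψ
      apply Helper78.classInner_irr_ne ψ.2 χ.2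
      intro h
      exact hnot (by rwa [← Subtype.ext h])
    rw [Helper75.frobenius_reciprocity M (θ : M → ℂ) (Helper78.isClassFunction_irr χ)] at h1
    rw [← Helper78.classInner_conj_symm, h1, map_zero]
  have hresχ := hres χ hχD
  -- e = 1
  have hdeg : charDegree (χ : G → ℂ) = e * charDegree (θ : M → ℂ) := by
    have h1 := congrFun hresχ 1
    simp only [Pi.smul_apply, smul_eq_mul] at h1
    have h2 : ((1 : M) : G) = 1 := rfl
    rw [h2, Helper78.IsCharacter.apply_one_eq_charDegree (Helper78.IsIrrCharacter.isCharacter χ.2),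
      Helper78.IsCharacter.apply_one_eq_charDegree (Helper78.IsIrrCharacter.isCharacter θ.2)] at h1
    exact_mod_cast h1
  have he1 : e = 1 := by
    have h1 : e ∣ p ^ n := by
      rw [← hn, ← hcount]
      exact Dvd.intro (e * D.card) (by ring)
    obtain ⟨j, -, hj⟩ := (Nat.dvd_prime_pow hp).mp h1
    rcases Nat.eq_zero_or_pos j with h0 | hpos
    · rw [hj, h0, pow_zero]
    · exfalso
      apply hχ
      rw [hdeg, hj]
      exact Dvd.dvd.mul_right (dvd_pow_self p hpos.ne') _
  rw [hresχ, he1]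
  simp only [Nat.cast_one, one_smul]
  exact Helper78.classInner_irr_self θ.2

end ResAbelianP

section PCase

variable {G : Type u} [Group G] [Fintype G]

/-- **The `p`-group case.**  If `G/K` is a nonabelian `p`-group, every irreducible character of
degree prime to `p` divides (in degree) an irreducible character of degree divisible by `p`. -/
theorem pgroup_case (K : Subgroup G) [hK : K.Normal] (p : ℕ) [hp : Fact p.Prime]
    (hQ : IsPGroup p (G ⧸ K)) (hnonab : ∃ a b : G ⧸ K, a * b ≠ b * a) (χ : IrrCharacter G)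
    (hχ : ¬ p ∣ charDegree (χ : G → ℂ)) :
    ∃ ξ : IrrCharacter G, p ∣ charDegree (ξ : G → ℂ) ∧
      charDegree (χ : G → ℂ) ∣ charDegree (ξ : G → ℂ) := by
  classical
  let _ : Fintype (G ⧸ K) := Fintype.ofFinite _
  have : Group.IsNilpotent (G ⧸ K) := hQ.isNilpotent
  obtain ⟨ψ, hψ1, hψcomm, hψvan⟩ := exists_irr_vanishing_off_center (G := G ⧸ K) hnonab
  set ψt : IrrCharacter G := Helper77.inflate K ψ with hψt
  have hmem : ∀ g : G, g ∈ Helper77.irrCenter ψt ↔ (g : G ⧸ K) ∈ Helper77.irrCenter ψ := by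
    intro g
    rw [Helper77.mem_irrCenter, Helper77.mem_irrCenter, Helper77.inflate_apply,
      Helper77.inflate_apply]
    rfl
  have hvan : ∀ g : G, g ∉ Helper77.irrCenter ψt → (ψt : G → ℂ) g = 0 := by
    intro g hg
    rw [Helper77.inflate_apply]
    exact hψvan _ (fun h => hg ((hmem g).mpr h))
  let _ : Fintype (Helper77.irrCenter ψt) := Fintype.ofFinite _
  have hnorm := classInner_mul_of_vanishing ψt hvan (χ : G → ℂ)
  have hab : ∀ x y : G, x * y * x⁻¹ * y⁻¹ ∈ Helper77.irrCenter ψt := by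
    intro x y
    rw [hmem]
    have := hψcomm (x : G ⧸ K) (y : G ⧸ K)
    rw [commutatorElement_def] at this
    simpa using this
  have hKM : K ≤ Helper77.irrCenter ψt := by
    intro k hk
    rw [hmem, (QuotientGroup.eq_one_iff k).mpr hk]
    exact Subgroup.one_mem _
  obtain ⟨n, hn⟩ := IsPGroup.iff_card.mp hQ
  have hidx : ∃ j, (Helper77.irrCenter ψt).index = p ^ j := by
    have h1 : (Helper77.irrCenter ψt).index ∣ K.index := Subgroup.index_dvd_of_le hKM
    rw [Subgroup.index_eq_card K, hn] at h1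
    obtain ⟨j, -, hj⟩ := (Nat.dvd_prime_pow hp.out).mp h1
    exact ⟨j, hj⟩
  have hone := classInner_res_self_eq_one_of_not_dvd (Helper77.irrCenter ψt) p hp.out hab hidx χ hχ
  rw [hone] at hnorm
  have hirr : IsIrrCharacter G ((χ : G → ℂ) * (ψt : G → ℂ)) :=
    Helper78.isIrrCharacter_of_classInner_self_eq_one
      (isCharacter_mul (Helper78.IsIrrCharacter.isCharacter χ.2)
        (Helper78.IsIrrCharacter.isCharacter ψt.2)) hnorm
  have hdegmul : charDegree ((χ : G → ℂ) * (ψt : G → ℂ)) =
      charDegree (χ : G → ℂ) * charDegree (ψ : G ⧸ K → ℂ) := by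
    apply charDegree_natCast
    rw [Pi.mul_apply,
      Helper78.IsCharacter.apply_one_eq_charDegree (Helper78.IsIrrCharacter.isCharacter χ.2),
      Helper77.inflate_apply, QuotientGroup.mk_one,
      Helper78.IsCharacter.apply_one_eq_charDegree (Helper78.IsIrrCharacter.isCharacter ψ.2)]
    push_cast
    ring
  have hpψ : p ∣ charDegree (ψ : G ⧸ K → ℂ) := by
    have hcard := card_irrCenter_mul_sq_of_vanishing ψ hψvan
    rw [hn] at hcard
    have h1 : charDegree (ψ : G ⧸ K → ℂ) ∣ p ^ n := by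
      rw [← hcard]
      exact Dvd.intro_left (Nat.card (Helper77.irrCenter ψ) * charDegree (ψ : G ⧸ K → ℂ))
        (by ring)
    obtain ⟨j, -, hj⟩ := (Nat.dvd_prime_pow hp.out).mp h1
    rcases Nat.eq_zero_or_pos j with h0 | hpos
    · exfalso
      apply hψ1
      rw [hj, h0, pow_zero]
    · rw [hj]
      exact dvd_pow_self p hpos.ne'
  refine ⟨⟨_, hirr⟩, ?_, ?_⟩
  · change p ∣ charDegree ((χ : G → ℂ) * (ψt : G → ℂ))
    rw [hdegmul]
    exact Dvd.dvd.mul_left hpψ _
  · change _ ∣ charDegree ((χ : G → ℂ) * (ψt : G → ℂ))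
    rw [hdegmul]
    exact Dvd.intro _ rfl

end PCase

end Cfsg.Agent.Lib.Helper80.DG
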